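import Cfsg.Agent.Lib.ThreeTransp.Factor.Quotient
import Cfsg.Agent.Lib.ThreeTransp.Width1

/-!
# Twin-free links from a simple link quotient; lifting; connectedness of links
-/

set_option autoImplicit false

namespace CfsgLib.ThreeTransp.Factor

open CfsgLib.SporMisc

variable {G : Type*} [Group G] [Finite G] {D : Set G}

theorem twinFree_link_conj (hD : IsTT D) (g : G) {a : G} (h : TwinFreeOn (link D a)) :
    TwinFreeOn (link D (g * a * g⁻¹)) :=
  h.conj g (fun _ hx => link_conj hD g hx) (fun _ hy => (link_conj_iff hD g).1 hy)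

omit [Finite G] in
theorem not_isSolvable_of_simple_noncomm {H : Type*} [Group H] {S : Set H} (hS : IsTT S)
    [hs : IsSimpleGroup (H ⧸ Subgroup.center H)] {x z : H} (hx : x ∈ S) (hz : z ∈ S)
    (hxz : ¬Commute x z) : ¬ Group.IsSolvable (H ⧸ Subgroup.center H) := by
  intro hsol
  have hcomm := IsSimpleGroup.comm_iff_isSolvable.2 hsol
  set π := QuotientGroup.mk' (Subgroup.center H) with hπ
  have hc : Commute (π x) (π z) := hcomm _ _
  have h2 : π ((x * z) ^ 2) = 1 := by
    rw [map_pow, map_mul, hc.mul_pow, ← map_pow, ← map_pow, pow_two, pow_two, hS.sq x hx,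
      hS.sq z hz, map_one, one_mul]
  have e : π ((x * z) ^ 3) = 1 := by
    rw [pow_three_eq_one (hS.sq x hx) (hS.sq z hz) (hS.braid hx hz hxz), map_one]
  rw [pow_succ, map_mul, h2, one_mul] at e
  have hm : x * z ∈ Subgroup.center H := (QuotientGroup.eq_one_iff _).1 e
  refine hxz ?_
  have h1 := Subgroup.mem_center_iff.1 hm x
  rw [mul_assoc] at h1
  exact mul_left_cancel h1

/-- Members of the link not central in the group it generates have no twins. -/
theorem noncentral_twin_eq (hD : IsTT D) {d : G}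
    [hs : IsSimpleGroup (↥(linkSub D d) ⧸ Subgroup.center ↥(linkSub D d))]
    {x y z : ↥(linkSub D d)} (hx : x ∈ linkIn D d) (hy : y ∈ linkIn D d) (hz : z ∈ linkIn D d)
    (hxz : ¬Commute x z) (hxy : ∀ w ∈ linkIn D d, Commute x w ↔ Commute y w) : x = y := by
  have hT := linkIn_tt hD d
  have hp : perp (linkIn D d) x = perp (linkIn D d) y := by
    ext w
    exact ⟨fun hw => ⟨hw.1, (hxy w hw.1).1 hw.2⟩, fun hw => ⟨hw.1, (hxy w hw.1).2 hw.2⟩⟩
  set π := QuotientGroup.mk' (Subgroup.center ↥(linkSub D d)) with hπ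
  set N := keyKer (linkIn D d) (perp (linkIn D d)) with hN
  haveI hNn : N.Normal := hT.keyKer_normal hT.equivariant_perp
  haveI hNs : Group.IsSolvable N := hT.perpKer_solvable
  haveI hn : (N.map π).Normal := hNn.map π (QuotientGroup.mk'_surjective _)
  haveI hMs : Group.IsSolvable (N.map π) :=
    Group.isSolvable_of_surjective (f := π.subgroupMap N) (π.subgroupMap_surjective N)
  rcases hn.eq_bot_or_eq_top with h | h
  · have hm : x * y ∈ Subgroup.center ↥(linkSub D d) := by
      rw [← QuotientGroup.eq_one_iff]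
      exact Subgroup.mem_bot.1 (h ▸ Subgroup.mem_map_of_mem π (mul_mem_keyKer hx hy hp))
    have hzy : ¬Commute z y := fun hc => hxz ((hxy z hz).2 hc.symm)
    exact eq_of_commute_mul hT hz hx hy (fun hc => hxz hc.symm) hzy
      (Subgroup.mem_center_iff.1 hm z)
  · exfalso
    refine not_isSolvable_of_simple_noncomm hT hx hz hxz ?_
    rw [h] at hMs
    exact Group.isSolvable_of_surjective
      (f := (⊤ : Subgroup (↥(linkSub D d) ⧸ Subgroup.center ↥(linkSub D d))).subtype)
      fun w => ⟨⟨w, Subgroup.mem_top w⟩, rfl⟩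

/-- A simple link quotient at one member makes all perps and links twin-free. -/
theorem twinFree_of_simple (h : TTC D) {d : G} (hd : d ∈ D)
    (hs : IsSimpleGroup (↥(linkSub D d) ⧸ Subgroup.center ↥(linkSub D d))) :
    TwinFreeOn D ∧ ∀ a ∈ D, TwinFreeOn (link D a) := by
  haveI := hs
  -- a non-commuting pair in the link
  obtain ⟨x, hx, z, hz, hxz⟩ : ∃ x ∈ linkIn D d, ∃ z ∈ linkIn D d, ¬Commute x z := by
    by_contra hcon
    push Not at hcon
    have htop : Subgroup.center ↥(linkSub D d) = ⊤ := by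
      rw [eq_top_iff, ← linkIn_gen D d, Subgroup.closure_le]
      intro x hx
      rw [SetLike.mem_coe, Subgroup.mem_center_iff]
      intro g
      have hle : Subgroup.closure (linkIn D d) ≤ Subgroup.centralizer ({x} : Set _) :=
        (Subgroup.closure_le _).2 fun w hw =>
          Subgroup.mem_centralizer_singleton_iff.2 (hcon w hw x hx).eq
      exact Subgroup.mem_centralizer_singleton_iff.1
        (hle ((linkIn_gen D d).symm ▸ Subgroup.mem_top g))
    obtain ⟨u, v, huv⟩ := exists_pair_ne (↥(linkSub D d) ⧸ Subgroup.center ↥(linkSub D d))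
    obtain ⟨u, rfl⟩ := QuotientGroup.mk_surjective u
    obtain ⟨v, rfl⟩ := QuotientGroup.mk_surjective v
    exact huv (QuotientGroup.eq.2 (htop ▸ Subgroup.mem_top _))
  have hxd : (x : G) ≠ d := hx.2.1
  have hpi : TwinFreeOn D := by
    intro u hu v hv huv
    by_contra hne
    obtain ⟨g, hg⟩ := h.cls u hu x hx.1
    set y := g * v * g⁻¹ with hy
    have hyD : y ∈ D := h.tt.conj g v hv
    have tw : ∀ w ∈ D, Commute (x : G) w ↔ Commute y w := by
      intro w hw
      have h1 : g⁻¹ * w * g ∈ D := by simpa using h.tt.conj g⁻¹ w hw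
      have key : ∀ t : G, Commute (g * t * g⁻¹) w ↔ Commute t (g⁻¹ * w * g) := by
        intro t
        conv_lhs => rw [show w = g * (g⁻¹ * w * g) * g⁻¹ by group]
        exact Commute.conj_iff g
      rw [← hg, key, hy, key]
      exact huv _ h1
    have hyd : y ≠ d := by
      intro e
      exact hxz (commute_coe_iff.1 ((tw z hz.1).2 (e ▸ hz.2.2)))
    have hyl : y ∈ link D d := ⟨hyD, hyd, ((tw d hd).1 hx.2.2.symm).symm⟩
    have hy' : (⟨y, Subgroup.subset_closure hyl⟩ : ↥(linkSub D d)) ∈ linkIn D d := hyl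
    have := noncentral_twin_eq h.tt hx hy' hz hxz fun w hw => by
      rw [← commute_coe_iff, ← commute_coe_iff]; exact tw _ hw.1
    have e : g * u * g⁻¹ = g * v * g⁻¹ := hg.trans (congrArg Subtype.val this)
    exact hne (by simpa using e)
  refine ⟨hpi, fun a ha => ?_⟩
  obtain ⟨g, rfl⟩ := h.cls d hd a ha
  refine twinFree_link_conj h.tt g ?_
  have hnc : ∀ w ∈ linkIn D d, ∃ t ∈ linkIn D d, ¬Commute w t := by
    intro w hw
    by_contra hcon
    push Not at hcon
    refine hw.2.1 ?_
    have hle : perp D d ⊆ perp D (w : G) := by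
      intro e he
      refine ⟨he.1, ?_⟩
      by_cases hed : e = d
      · subst hed; exact hw.2.2.symm
      · exact commute_coe_iff.2 (hcon ⟨e, Subgroup.subset_closure ⟨he.1, hed, he.2⟩⟩
          ⟨he.1, hed, he.2⟩)
    have hcard : (perp D (w : G)).ncard ≤ (perp D d).ncard := by
      obtain ⟨k, hk⟩ := h.cls d hd w hw.1
      refine Set.ncard_le_ncard_of_injOn (fun t => k⁻¹ * t * k) ?_
        (fun u _ v _ huv => by simpa using huv) (Set.toFinite _)
      intro t ht
      refine ⟨by simpa using h.tt.conj k⁻¹ t ht.1, ?_⟩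
      have h2 := ht.2
      rw [← hk] at h2
      rw [← Commute.conj_iff k]
      simpa [mul_assoc] using h2
    have heq := Set.eq_of_subset_of_ncard_le hle hcard (Set.toFinite _)
    exact (hpi d hd w hw.1 fun t ht =>
      ⟨fun hc => IsTT.commute_of_perp_eq ht heq hc,
        fun hc => IsTT.commute_of_perp_eq ht heq.symm hc⟩).symm
  have key : TwinFreeOn (linkIn D d) := by
    intro b hb c hc hbc
    obtain ⟨t, ht, hbt⟩ := hnc b hb
    exact noncentral_twin_eq h.tt hb hc ht hbt hbc
  have := key.coe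
  have he : ((↑) : ↥(linkSub D d) → G) '' linkIn D d = link D d := by
    ext t
    constructor
    · rintro ⟨s, hs', rfl⟩; exact hs'
    · intro ht; exact ⟨⟨t, Subgroup.subset_closure ht⟩, ht, rfl⟩
  rwa [he] at this

/-- Twin-free links downstairs give twin-free double links. -/
theorem tfTwo_of_quot (h : TTC D) {d : G} (hd : d ∈ D) (hl : TTC (linkIn D d))
    (ht : ∀ p ∈ qSet (linkIn D d), TwinFreeOn (link (qSet (linkIn D d)) p)) : TFTwo D := by
  intro a ha p hp
  obtain ⟨g, rfl⟩ := h.cls d hd a ha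
  have hp' := (link_conj_iff h.tt g).1 hp
  have key : TwinFreeOn (link D d ∩ link D (g⁻¹ * p * g)) := by
    let p₀ : ↥(linkSub D d) := ⟨_, Subgroup.subset_closure hp'⟩
    have hp₀ : p₀ ∈ linkIn D d := hp'
    have h1 := ht _ ⟨p₀, hp₀, rfl⟩
    rw [← q_link hl hp₀] at h1
    have h2 := (q_twinFree hl (fun _ hx => hx.1) h1).coe
    rwa [coe_link_linkIn] at h2
  have e : g * (g⁻¹ * p * g) * g⁻¹ = p := by group
  refine key.conj g (fun x hx => ⟨link_conj h.tt g hx.1, ?_⟩)
    fun y hy => ⟨(link_conj_iff h.tt g).1 hy.1, ?_⟩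
  · have := link_conj h.tt g hx.2
    rwa [e] at this
  · exact (link_conj_iff h.tt g).1 (e.symm ▸ hy.2)

/-- Twin-free double links downstairs give twin-free triple links. -/
theorem tfThree_of_quot (h : TTC D) {d : G} (hd : d ∈ D) (hl : TTC (linkIn D d))
    (ht : TFTwo (qSet (linkIn D d))) : TFThree D := by
  intro a ha p hp q hq
  obtain ⟨g, rfl⟩ := h.cls d hd a ha
  have hp' := (link_conj_iff h.tt g).1 hp
  have hq1 := (link_conj_iff h.tt g).1 hq.1
  have ep : g * (g⁻¹ * p * g) * g⁻¹ = p := by group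
  have eq' : g * (g⁻¹ * q * g) * g⁻¹ = q := by group
  have hq2 : g⁻¹ * q * g ∈ link D (g⁻¹ * p * g) := (link_conj_iff h.tt g).1 (ep.symm ▸ hq.2)
  have key : TwinFreeOn (link D d ∩ link D (g⁻¹ * p * g) ∩ link D (g⁻¹ * q * g)) := by
    let p₀ : ↥(linkSub D d) := ⟨_, Subgroup.subset_closure hp'⟩
    let q₀ : ↥(linkSub D d) := ⟨_, Subgroup.subset_closure hq1⟩
    have hp₀ : p₀ ∈ linkIn D d := hp'
    have hq₀ : q₀ ∈ linkIn D d := hq1
    have hqp : q₀ ∈ link (linkIn D d) p₀ :=
      ⟨hq₀, fun e => hq2.2.1 (congrArg Subtype.val e), commute_coe_iff.1 hq2.2.2⟩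
    have h1 := ht _ ⟨p₀, hp₀, rfl⟩ _ (by rw [← q_link hl hp₀]; exact ⟨q₀, hqp, rfl⟩)
    rw [← q_link_inter hl hp₀ hq₀] at h1
    have h2 := (q_twinFree hl (fun _ hx => hx.1.1) h1).coe
    rw [Set.image_inter Subtype.val_injective, coe_link_linkIn, coe_link_linkIn] at h2
    rwa [← Set.inter_inter_distrib_left, ← Set.inter_assoc] at h2
  refine key.conj g (fun x hx => ⟨⟨link_conj h.tt g hx.1.1, ?_⟩, ?_⟩)
    fun y hy => ⟨⟨(link_conj_iff h.tt g).1 hy.1.1, ?_⟩, ?_⟩
  · exact ep ▸ link_conj h.tt g hx.1.2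
  · exact eq' ▸ link_conj h.tt g hx.2
  · exact (link_conj_iff h.tt g).1 (ep.symm ▸ hy.1.2)
  · exact (link_conj_iff h.tt g).1 (eq'.symm ▸ hy.2)

omit [Finite G] in
/-- In a closed set generating a non-solvable group every member commutes with another one. -/
theorem exists_commuting_in [Finite G] (hD : IsTT D) {E : Set G} (hE : E ⊆ D)
    (hcl : ∀ u ∈ E, ∀ v ∈ E, u * v * u ∈ E) (hns : ¬ Group.IsSolvable (Subgroup.closure E))
    {w : G} (hw : w ∈ E) : ∃ w' ∈ E, w' ≠ w ∧ Commute w w' := by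
  by_contra hcon
  push Not at hcon
  refine hns (IsW1.isSolvable_closure (hD.mono_w1 hE ?_ hcl))
  intro u hu v hv huv hc
  by_cases huw : u = w
  · subst huw; exact hcon v hv huv.symm hc
  by_cases hvw : v = w
  · subst hvw; exact hcon u hu huv hc.symm
  have e : u * v * w * (u * v)⁻¹ = u * (v * w * v) * u := by
    rw [mul_inv_rev, hD.inv_eq (hE hu), hD.inv_eq (hE hv)]; group
  have hu' : ¬Commute w u := hcon u hu huw
  have hv' : ¬Commute w v := hcon v hv hvw
  exact hcon _ (e ▸ hcl u hu _ (hcl v hv w hw))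
    (pair_conj_ne hD (hE hw) (hE hu) (hE hv) hu' hv' huv)
    (commute_pair_conj hD (hE hw) (hE hu) (hE hv) hu' hv' hc)

theorem inter_link_closed (hD : IsTT D) {x y u v : G}
    (hu : u ∈ link D x ∩ link D y) (hv : v ∈ link D x ∩ link D y) :
    u * v * u ∈ link D x ∩ link D y := by
  have key : ∀ t : G, u ∈ link D t → v ∈ link D t → u * v * u ∈ link D t := by
    intro t h1 h2
    have := link_conj hD u h2
    rw [← h1.2.2.eq, mul_inv_cancel_right, hD.inv_eq h1.1] at this
    exact this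
  exact ⟨key x hu.1 hv.1, key y hu.2 hv.2⟩

/-- Non-solvability of all common links of non-commuting pairs, from one pair. -/
theorem not_solvable_pair (h : FischerHyp D) {d c x y : G} (hd : d ∈ D) (hc : c ∈ D)
    (hdc : ¬Commute d c) (hns : ¬ Group.IsSolvable (Subgroup.closure (link D d ∩ link D c)))
    (hx : x ∈ D) (hy : y ∈ D) (hxy : ¬Commute x y) :
    ¬ Group.IsSolvable (Subgroup.closure (link D x ∩ link D y)) := by
  intro hsol
  obtain ⟨g, hg⟩ := h.isClass x hx d hd
  have h1 : ¬Commute d (g * y * g⁻¹) := fun hh => hxy ((Commute.conj_iff g).1 (hg.symm ▸ hh))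
  obtain ⟨k, hk, hkc⟩ := h.exists_conj_noncomm hd (h.tt.conj g y hy) hc h1 hdc
  have e1 : k * g * x * (k * g)⁻¹ = d := by
    rw [show k * g * x * (k * g)⁻¹ = k * (g * x * g⁻¹) * k⁻¹ by group, hg, hk.eq,
      mul_inv_cancel_right]
  have e2 : k * g * y * (k * g)⁻¹ = c := by rw [← hkc]; group
  have hmap : Subgroup.closure (link D d ∩ link D c) ≤
      (Subgroup.closure (link D x ∩ link D y)).map (MulAut.conj (k * g)).toMonoidHom := by
    rw [MonoidHom.map_closure]
    refine Subgroup.closure_mono fun z hz => ⟨(k * g)⁻¹ * z * (k * g), ?_, by simp [mul_assoc]⟩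
    exact ⟨(link_conj_iff h.tt (k * g)).1 (e1.symm ▸ hz.1),
      (link_conj_iff h.tt (k * g)).1 (e2.symm ▸ hz.2)⟩
  refine hns (isSolvable_mono hmap ?_)
  haveI := hsol
  exact Group.isSolvable_of_surjective
    (f := (MulAut.conj (k * g)).toMonoidHom.subgroupMap _)
    (MonoidHom.subgroupMap_surjective _ _)

/-- Links have connected commuting graphs when common links are non-solvable. -/
theorem linkIn_connected (hD : IsTT D) {a : G} (ha : a ∈ D)
    (hns : ∀ x ∈ D, ∀ y ∈ D, ¬Commute x y →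
      ¬ Group.IsSolvable (Subgroup.closure (link D x ∩ link D y))) :
    ∀ x ∈ linkIn D a, ∀ y ∈ linkIn D a,
      comp (linkIn D a) Commute x = comp (linkIn D a) Commute y := by
  intro x hx y hy
  refine (comp_eq_of_mem (fun _ _ hh => hh.symm) ?_).symm
  by_cases hc : Commute x y
  · exact mem_comp_of_rel hx hy hc
  have hc' : ¬Commute (x : G) (y : G) := fun h => hc (commute_coe_iff.1 h)
  obtain ⟨w, hw, hwa, hcw⟩ := exists_commuting_in hD (fun _ h => h.1.1)
    (fun u hu v hv => inter_link_closed hD hu hv) (hns _ hx.1 _ hy.1 hc')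
    (w := a) ⟨⟨ha, fun e => hx.2.1 e.symm, hx.2.2.symm⟩, ha, fun e => hy.2.1 e.symm, hy.2.2.symm⟩
  have hwl : w ∈ link D a := ⟨hw.1.1, hwa, hcw⟩
  let w₀ : ↥(linkSub D a) := ⟨w, Subgroup.subset_closure hwl⟩
  exact mem_comp_step (mem_comp_of_rel hx (show w₀ ∈ linkIn D a from hwl)
    (commute_coe_iff.1 hw.1.2.2)) hwl hy (commute_coe_iff.1 hw.2.2.2.symm)

end CfsgLib.ThreeTransp.Factor
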