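import Cfsg.Prelude.Def_FischerSpaces
import Cfsg.Agent.Lib.ThreeTransp.Factor.TwinFree
import Cfsg.Agent.Lib.Classical.UnitaryPSU
import Cfsg.Agent.Lib.Classical.QuadSiegel
import Cfsg.Agent.Lib.SporMisc.RefClassThree

/-!
# Types M(23) and M(24): twin-freeness of links, transitivity on commuting triples
-/

set_option autoImplicit false

namespace CfsgLib.ThreeTransp.Factor

open CfsgLib.SporMisc

variable {G : Type*} [Group G] [Finite G] {D : Set G}

/-- The hypotheses of Fischer's theorem for a primitive group with trivial centre. -/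
theorem hyp_of_group (hD : Cfsg.IsThreeTranspositionGroup D) (hp : Cfsg.IsPrimitiveUnderConj D)
    (hZ : Subgroup.center G = ⊥) (hw : ∃ a ∈ D, ∃ b ∈ D, a ≠ b ∧ Commute a b) :
    PrimHyp D ∧ FischerHyp D := by
  have h := TTC.of_prim hD hp
  obtain ⟨hconn, h2, h3⟩ := h.of_primitive hp hw
  obtain ⟨L, hn, hL, -, hC⟩ := h.exists_main_component h2 h3
  have hsol : ∀ N : Subgroup G, N.Normal → Group.IsSolvable N → N = ⊥ := by
    intro N hN hs
    have hle : L ≤ Subgroup.normalizer (N : Set G) := by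
      haveI := hN
      rw [Subgroup.normalizer_eq_top (H := N)]; exact le_top
    have := CfsgLib.Cores.component_commutator_solvable hL hs hle
    rw [eq_bot_iff, ← hZ, ← hC]
    exact Subgroup.le_centralizer_iff.1 (Subgroup.commutator_eq_bot_iff_le_centralizer.1 this)
  refine ⟨⟨h, hsol, hconn⟩, ⟨h.tt, h.gen, hsol, ?_, h.cls⟩⟩
  rw [h.commutator_eq_component hL (h.index_le_two_of_connected hL hC hconn)]
  exact CfsgLib.Cores.commutator_self_of_isQuasisimple hL.2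

/-- Central cores of the link group pass to conjugate members. -/
theorem cores_conj (h : TTC D) {p : ℕ} {d₀ d : G} (hd₀ : d₀ ∈ D) (hd : d ∈ D)
    (hp : Cfsg.pCore p ↥(linkSub D d₀) ≤ Subgroup.center ↥(linkSub D d₀)) :
    Cfsg.pCore p ↥(linkSub D d) ≤ Subgroup.center ↥(linkSub D d) := by
  obtain ⟨g, rfl⟩ := h.cls d₀ hd₀ d hd
  have hmap : (linkSub D d₀).map (MulAut.conj g).toMonoidHom = linkSub D (g * d₀ * g⁻¹) := by
    rw [MonoidHom.map_closure]
    refine congrArg Subgroup.closure (Set.ext fun x => ⟨?_, fun hx => ?_⟩)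
    · rintro ⟨y, hy, rfl⟩; exact link_conj h.tt g hy
    · exact ⟨g⁻¹ * x * g, (link_conj_iff h.tt g).1 hx, by simp [mul_assoc]⟩
  let e : ↥(linkSub D d₀) ≃* ↥(linkSub D (g * d₀ * g⁻¹)) :=
    ((MulAut.conj g).subgroupMap _).trans (MulEquiv.subgroupCongr hmap)
  rw [← CfsgLib.Cores.map_pCore_equiv e]
  rintro _ ⟨x, hx, rfl⟩
  exact Subgroup.mem_center_iff.2 fun y => e.symm.injective (by
    simpa using Subgroup.mem_center_iff.1 (hp hx) (e.symm y))

omit [Finite G] in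
theorem isSolvable_quot {H : Subgroup G} (hs : Group.IsSolvable H) :
    Group.IsSolvable (H ⧸ Subgroup.center H) :=
  Group.isSolvable_of_surjective (f := QuotientGroup.mk' (Subgroup.center H))
    (QuotientGroup.mk'_surjective _)

/-- Reflection groups modulo their centres are not solvable. -/
theorem not_solvable_of_proj {X : Type*} [Group X] {n : ℕ} (hn : 5 ≤ n) {μ c : ZMod 3}
    (hc : c ≠ 0) (h : Cfsg.IsProjReflectionGroupModThree X n μ c) : ¬ Group.IsSolvable X := by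
  intro hs
  obtain ⟨Q, hQ, -, ⟨e⟩⟩ := h
  have hq := (CfsgLib.SporMisc.RefThree.structure_theorem Q hQ hc hn).1
  haveI := hs
  have h1 : Group.IsSolvable (Cfsg.reflectionSubgroup (⇑Q) c ⧸
      Subgroup.center (Cfsg.reflectionSubgroup (⇑Q) c)) :=
    Group.isSolvable_of_surjective (f := e.toMonoidHom) e.surjective
  have h2 : Group.IsSolvable ↥(Cfsg.reflectionSubgroup (⇑Q) c) :=
    isSolvable_of_normal _ (Group.isSolvable_of_comm fun u v =>
      Subtype.ext (Subgroup.mem_center_iff.1 v.2 u)) h1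
  haveI := h2
  exact CfsgLib.Cores.not_isSolvable_of_isQuasisimple hq inferInstance

/-- `PΩ⁺(8,3)` is not solvable. -/
theorem not_solvable_pOmega :
    ¬ Group.IsSolvable (Cfsg.POmega (ZMod 3) (Cfsg.quadFormPlus 4 (ZMod 3))) := by
  rw [← CfsgLib.Classical.coe_qPlus 4]
  set Q := CfsgLib.Classical.qPlus 4 (ZMod 3) with hQdef
  have hQ : CfsgLib.Classical.PolarNondeg Q := CfsgLib.Classical.polarNondeg_qPlus 4
  have hn : 5 ≤ Module.finrank (ZMod 3) (Fin 4 ⊕ Fin 4 → ZMod 3) := by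
    rw [Module.finrank_pi]; simp
  haveI : Group.IsPerfect (CfsgLib.Classical.eichGroup Q) :=
    ⟨Subgroup.map_injective (CfsgLib.Classical.eichGroup Q).subtype_injective (by
      rw [commutator_def, Subgroup.map_commutator, ← MonoidHom.range_eq_map, Subgroup.range_subtype,
        CfsgLib.Classical.eichGroup_perfect Q hQ hn])⟩
  let e : Cfsg.Omega (ZMod 3) ⇑Q ≃* CfsgLib.Classical.eichGroup Q :=
    ((CfsgLib.Classical.isoEquiv Q).subgroupMap _).trans (MulEquiv.subgroupCongr (by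
      rw [CfsgLib.Classical.eichGroup_eq_commutator Q hQ hn]
      exact CfsgLib.Classical.map_commutator_equiv (CfsgLib.Classical.isoEquiv Q)))
  haveI : Group.IsPerfect (Cfsg.Omega (ZMod 3) ⇑Q) :=
    Group.IsPerfect.ofSurjective (f := e.symm.toMonoidHom) e.symm.surjective
  haveI : Group.IsPerfect (Cfsg.POmega (ZMod 3) ⇑Q) :=
    Group.IsPerfect.ofSurjective (f := QuotientGroup.mk' _) (QuotientGroup.mk'_surjective _)
  haveI : IsSimpleGroup (Cfsg.POmega (ZMod 3) ⇑Q) :=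
    CfsgLib.Classical.isSimpleGroup_POmega _ hQ (by simp)
  exact Group.IsPerfect.not_isSolvable _

/-- Width two from a link quotient of type M(22) or M(23). -/
theorem exists_comm_pair {d : G} (hd : d ∈ D)
    {u : ↥(linkSub D d) ⧸ Subgroup.center ↥(linkSub D d)} (hu : u ∈ qSet (linkIn D d)) :
    ∃ a ∈ D, ∃ b ∈ D, a ≠ b ∧ Commute a b := by
  obtain ⟨x, hx, -⟩ := hu
  exact ⟨d, hd, x, hx.1, fun e => hx.2.1 e.symm, hx.2.2⟩

/-- A link quotient of type M(22) makes double links twin-free. -/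
theorem tfTwo_of_m22 (h : PrimHyp D) {d : G} (hd : d ∈ D)
    (hM : Cfsg.IsOfTypeM22 (↥(linkSub D d) ⧸ Subgroup.center ↥(linkSub D d))
      (qSet (linkIn D d))) : TFTwo D := by
  obtain ⟨-, d', hd', c', hc', hne, ⟨F, hF₁, hF₂, hF, ⟨e⟩⟩, -⟩ := hM
  have hl := h.link_ttc hd (nontriv_of_qSet hd' hc' fun e => hne (e ▸ Commute.refl _))
  haveI : IsSimpleGroup (Cfsg.PSU 6 F 2) :=
    CfsgLib.Classical.Unitary.isSimpleGroup_PSU (by rw [hF]; norm_num) (by norm_num) (by norm_num)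
  haveI : Nontrivial (↥(linkSub (qSet (linkIn D d)) d') ⧸
      Subgroup.center ↥(linkSub (qSet (linkIn D d)) d')) := e.toEquiv.nontrivial
  have hs : IsSimpleGroup (↥(linkSub (qSet (linkIn D d)) d') ⧸
      Subgroup.center ↥(linkSub (qSet (linkIn D d)) d')) :=
    IsSimpleGroup.isSimpleGroup_of_surjective e.symm.toMonoidHom e.symm.surjective
  exact tfTwo_of_quot h.ttc hd hl (twinFree_of_simple (qSet_ttc hl) hd' hs).2

/-- The data at one member for type M(23). -/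
theorem m23_facts (hD : Cfsg.IsThreeTranspositionGroup D) (hp : Cfsg.IsPrimitiveUnderConj D)
    (h : Cfsg.IsOfTypeM23 G D) : PrimHyp D ∧ FischerHyp D ∧ TFTwo D := by
  obtain ⟨hZ, d, hd, c, hc, hdc, hM, -⟩ := h
  obtain ⟨d', hd', -⟩ := hM.2
  obtain ⟨h1, h2⟩ := hyp_of_group hD hp hZ (exists_comm_pair hd hd')
  exact ⟨h1, h2, tfTwo_of_m22 h1 hd hM⟩

/-- Type M(24) makes triple links twin-free. -/
theorem m24_facts (hD : Cfsg.IsThreeTranspositionGroup D) (hp : Cfsg.IsPrimitiveUnderConj D)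
    {d₀ : G} (hd₀ : d₀ ∈ D)
    (h2 : Cfsg.pCore 2 ↥(linkSub D d₀) ≤ Subgroup.center ↥(linkSub D d₀))
    (h3 : Cfsg.pCore 3 ↥(linkSub D d₀) ≤ Subgroup.center ↥(linkSub D d₀))
    (h : Cfsg.IsOfTypeM24 G D) : PrimHyp D ∧ FischerHyp D ∧ TFThree D := by
  obtain ⟨hZ, d, hd, c, hc, hdc, hM, N, hN, ⟨e⟩, -⟩ := h
  obtain ⟨-, d', hd', c', hc', hne, hM', -⟩ := hM
  obtain ⟨hP, hF⟩ := hyp_of_group hD hp hZ (exists_comm_pair hd hd')
  have hl := hP.link_ttc hd (nontriv_of_qSet hd' hc' fun e => hne (e ▸ Commute.refl _))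
  have hns : ¬ Group.IsSolvable (Subgroup.closure (link D d ∩ link D c)) := by
    intro hs
    haveI : Group.IsSolvable N := @Group.isSolvable_of_isSolvable_injective _ _ _ _ N.subtype
      N.subtype_injective (isSolvable_quot hs)
    exact not_solvable_pOmega (Group.isSolvable_of_surjective (f := e.toMonoidHom) e.surjective)
  have hconn := linkIn_connected hP.ttc.tt hd fun x hx y hy hxy =>
    not_solvable_pair hF hd hc hdc hns hx hy hxy
  have hK := q_primHyp hl (cores_conj hP.ttc hd₀ hd h2) (cores_conj hP.ttc hd₀ hd h3) hconn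
  exact ⟨hP, hF, tfThree_of_quot hP.ttc hd hl (tfTwo_of_m22 hK hd' hM')⟩

/-- Transitivity on ordered triples of distinct commuting members in type M(23). -/
theorem m23_transitive (hD : Cfsg.IsThreeTranspositionGroup D) (hp : Cfsg.IsPrimitiveUnderConj D)
    {d₀ : G} (hd₀ : d₀ ∈ D)
    (h2 : Cfsg.pCore 2 ↥(linkSub D d₀) ≤ Subgroup.center ↥(linkSub D d₀))
    (h3 : Cfsg.pCore 3 ↥(linkSub D d₀) ≤ Subgroup.center ↥(linkSub D d₀))
    (h : Cfsg.IsOfTypeM23 G D) {a b c j a' b' c' j' : G} (T : Tri D a b c j)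
    (T' : Tri D a' b' c' j') :
    ∃ g : G, g * a * g⁻¹ = a' ∧ g * b * g⁻¹ = b' ∧ g * c * g⁻¹ = c' := by
  obtain ⟨hP, hF, -⟩ := m23_facts hD hp h
  obtain ⟨-, d, hd, e, he, hde, hM, c₃, hc₃, hL⟩ := h
  obtain ⟨u, hu, v, hv, huv, -⟩ := hM.2
  have hl := hP.link_ttc hd (nontriv_of_qSet hu hv fun e => huv (e ▸ Commute.refl _))
  have hns : ¬ Group.IsSolvable (Subgroup.closure (link D d ∩ link D e)) := fun hs =>
    not_solvable_of_proj (by norm_num) hc₃ hL (isSolvable_quot hs)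
  have hconn := linkIn_connected hP.ttc.tt hd fun x hx y hy hxy =>
    not_solvable_pair hF hd he hde hns hx hy hxy
  have hK := q_primHyp hl (cores_conj hP.ttc hd₀ hd h2) (cores_conj hP.ttc hd₀ hd h3) hconn
  obtain ⟨g, hg⟩ := hP.ttc.cls a T.ma d hd
  obtain ⟨g', hg'⟩ := hP.ttc.cls a' T'.ma d hd
  have S := T.conj hP.ttc.tt g
  have S' := T'.conj hP.ttc.tt g'
  rw [hg] at S
  rw [hg'] at S'
  obtain ⟨k, hk, hkb⟩ := hP.exists_conj_link hd ⟨S.mb, S.nab.symm, S.cab⟩ ⟨S'.mb, S'.nab.symm, S'.cab⟩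
  have hkd := linkSub_commute hk
  have R := S.conj hP.ttc.tt k
  rw [hkd.eq, mul_inv_cancel_right, hkb] at R
  let p : ↥(linkSub D d) := ⟨_, Subgroup.subset_closure (show g' * b' * g'⁻¹ ∈ link D d from
    ⟨S'.mb, S'.nab.symm, S'.cab⟩)⟩
  let q : ↥(linkSub D d) := ⟨_, Subgroup.subset_closure (show k * (g * c * g⁻¹) * k⁻¹ ∈ link D d from
    ⟨R.mc, R.nac.symm, R.cac⟩)⟩
  let q' : ↥(linkSub D d) := ⟨_, Subgroup.subset_closure (show g' * c' * g'⁻¹ ∈ link D d from
    ⟨S'.mc, S'.nac.symm, S'.cac⟩)⟩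
  have hp' : p ∈ linkIn D d := ⟨S'.mb, S'.nab.symm, S'.cab⟩
  have hq : q ∈ link (linkIn D d) p :=
    ⟨⟨R.mc, R.nac.symm, R.cac⟩, fun e => R.nbc (congrArg Subtype.val e).symm,
      commute_coe_iff.1 R.cbc⟩
  have hq' : q' ∈ link (linkIn D d) p :=
    ⟨⟨S'.mc, S'.nac.symm, S'.cac⟩, fun e => S'.nbc (congrArg Subtype.val e).symm,
      commute_coe_iff.1 S'.cbc⟩
  obtain ⟨y, hy, hyq⟩ := hK.exists_conj_link
    (a := (p : ↥(linkSub D d) ⧸ Subgroup.center ↥(linkSub D d))) ⟨p, hp', rfl⟩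
    (by rw [← q_link hl hp']; exact ⟨q, hq, rfl⟩) (by rw [← q_link hl hp']; exact ⟨q', hq', rfl⟩)
  have hy' : y ∈ (linkSub (linkIn D d) p).map
      (QuotientGroup.mk' (Subgroup.center ↥(linkSub D d))) := by
    rw [MonoidHom.map_closure]
    exact (q_link hl hp').symm ▸ hy
  obtain ⟨m, hm, rfl⟩ := hy'
  have hmp : Commute m p := linkSub_commute hm
  have hmq : m * q * m⁻¹ = q' := q_inj hl (hl.tt.conj m q hq.1) hq'.1 (by
    rw [← hyq]; rfl)
  have hmd : Commute (m : G) d := linkSub_commute m.2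
  refine ⟨g'⁻¹ * (m : G) * k * g, ?_, ?_, ?_⟩
  · calc g'⁻¹ * (m : G) * k * g * a * (g'⁻¹ * (m : G) * k * g)⁻¹
        = g'⁻¹ * ((m : G) * (k * (g * a * g⁻¹) * k⁻¹) * (m : G)⁻¹) * g' := by group
      _ = a' := by
        rw [hg, hkd.eq, mul_inv_cancel_right, hmd.eq, mul_inv_cancel_right, ← hg']; group
  · have e1 : (m : G) * (g' * b' * g'⁻¹) * (m : G)⁻¹ = g' * b' * g'⁻¹ := by
      have : Commute (m : G) (g' * b' * g'⁻¹) := commute_coe_iff.2 hmp
      rw [this.eq, mul_inv_cancel_right]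
    calc g'⁻¹ * (m : G) * k * g * b * (g'⁻¹ * (m : G) * k * g)⁻¹
        = g'⁻¹ * ((m : G) * (k * (g * b * g⁻¹) * k⁻¹) * (m : G)⁻¹) * g' := by group
      _ = b' := by rw [hkb, e1]; group
  · have e1 : (m : G) * (k * (g * c * g⁻¹) * k⁻¹) * (m : G)⁻¹ = g' * c' * g'⁻¹ :=
      congrArg Subtype.val hmq
    calc g'⁻¹ * (m : G) * k * g * c * (g'⁻¹ * (m : G) * k * g)⁻¹
        = g'⁻¹ * ((m : G) * (k * (g * c * g⁻¹) * k⁻¹) * (m : G)⁻¹) * g' := by group
      _ = c' := by rw [e1]; group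

end CfsgLib.ThreeTransp.Factor
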