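import Cfsg.Agent.Lib.ThreeTransp.Factor.Identities
import Cfsg.Agent.Lib.SporMisc.ThreeBlocks
import Cfsg.Agent.Lib.ThreeTransp.Rank3

/-!
# The group generated by a link, and its quotient by the centre
-/

set_option autoImplicit false

namespace CfsgLib.ThreeTransp.Factor

open CfsgLib.SporMisc

variable {G : Type*} [Group G] {D : Set G}

/-- The subgroup generated by the link of `a`. -/
abbrev linkSub (D : Set G) (a : G) : Subgroup G := Subgroup.closure (link D a)

/-- The link of `a` inside the subgroup it generates. -/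
abbrev linkIn (D : Set G) (a : G) : Set ↥(linkSub D a) := {x | (x : G) ∈ link D a}

/-- The image of a set modulo the centre. -/
abbrev qSet {H : Type*} [Group H] (E : Set H) : Set (H ⧸ Subgroup.center H) :=
  (QuotientGroup.mk : H → _) '' E

theorem commute_coe_iff {H : Subgroup G} {x y : H} : Commute (x : G) (y : G) ↔ Commute x y :=
  ⟨fun h => Subtype.ext h, fun h => congrArg Subtype.val h⟩

theorem linkSub_commute {a z : G} (hz : z ∈ linkSub D a) : Commute z a :=
  Subgroup.closure_induction (p := fun z _ => Commute z a) (fun _ h => h.2.2.symm)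
    (Commute.one_left a) (fun _ _ _ _ h1 h2 => h1.mul_left h2) (fun _ _ h1 => h1.inv_left) hz

theorem linkIn_gen (D : Set G) (a : G) : Subgroup.closure (linkIn D a) = ⊤ :=
  Subgroup.closure_closure_coe_preimage

theorem linkIn_tt (hD : IsTT D) (a : G) : IsTT (linkIn D a) := by
  refine ⟨fun d hd => Subtype.ext (hD.sq _ hd.1), fun d hd h => hD.ne_one _ hd.1 (by rw [h]; rfl),
    fun d hd e he => ?_, fun g d hd => ?_⟩
  · rcases hD.cond _ hd.1 _ he.1 with h | h
    · exact Or.inl (commute_coe_iff.1 h)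
    · exact Or.inr (Subtype.ext h)
  · have := link_conj hD (g : G) hd
    rwa [(linkSub_commute g.2).eq, mul_inv_cancel_right] at this

theorem coe_link_linkIn {a : G} {p : ↥(linkSub D a)} :
    ((↑) : ↥(linkSub D a) → G) '' link (linkIn D a) p = link D a ∩ link D (p : G) := by
  ext z
  constructor
  · rintro ⟨x, ⟨h1, h2, h3⟩, rfl⟩
    exact ⟨h1, h1.1, fun e => h2 (Subtype.ext e), commute_coe_iff.2 h3⟩
  · rintro ⟨h1, h2⟩
    exact ⟨⟨z, Subgroup.subset_closure h1⟩,
      ⟨h1, fun e => h2.2.1 (congrArg Subtype.val e), commute_coe_iff.1 h2.2.2⟩, rfl⟩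

/-- Twin-freeness passes to images under maps reflecting commutation. -/
theorem TwinFreeOn.of_image {H K : Type*} [Group H] [Group K] {f : H → K} {E : Set H}
    (hinj : ∀ x ∈ E, ∀ y ∈ E, f x = f y → x = y)
    (hc : ∀ x ∈ E, ∀ y ∈ E, Commute (f x) (f y) ↔ Commute x y) (h : TwinFreeOn (f '' E)) :
    TwinFreeOn E := by
  intro b hb c hc' hbc
  refine hinj b hb c hc' (h _ ⟨b, hb, rfl⟩ _ ⟨c, hc', rfl⟩ ?_)
  rintro _ ⟨z, hz, rfl⟩
  rw [hc b hb z hz, hc c hc' z hz]
  exact hbc z hz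

theorem TwinFreeOn.coe {H : Subgroup G} {E : Set H} (h : TwinFreeOn E) :
    TwinFreeOn (((↑) : H → G) '' E) := by
  rintro _ ⟨b, hb, rfl⟩ _ ⟨c, hc, rfl⟩ hbc
  rw [h b hb c hc fun z hz => by
    rw [← commute_coe_iff, ← commute_coe_iff]; exact hbc _ ⟨z, hz, rfl⟩]

theorem TwinFreeOn.conj {E E' : Set G} (g : G) (h : TwinFreeOn E)
    (h1 : ∀ x ∈ E, g * x * g⁻¹ ∈ E') (h2 : ∀ y ∈ E', g⁻¹ * y * g ∈ E) : TwinFreeOn E' := by
  intro b hb c hc hbc
  have key : ∀ x z : G, Commute (g⁻¹ * x * g) z ↔ Commute x (g * z * g⁻¹) := by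
    intro x z
    rw [← Commute.conj_iff g, show g * (g⁻¹ * x * g) * g⁻¹ = x by group]
  have := h _ (h2 b hb) _ (h2 c hc) fun z hz => by
    rw [key, key]; exact hbc _ (h1 z hz)
  simpa using this

theorem link_conj_iff (hD : IsTT D) (g : G) {e y : G} :
    y ∈ link D (g * e * g⁻¹) ↔ g⁻¹ * y * g ∈ link D e := by
  constructor
  · intro h
    have := link_conj hD g⁻¹ h
    simpa [mul_assoc] using this
  · intro h
    have := link_conj hD g h
    simpa [mul_assoc] using this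

/-- Fischer's hypotheses without perfectness of the commutator subgroup. -/
structure PrimHyp (D : Set G) : Prop where
  ttc : TTC D
  sol : ∀ N : Subgroup G, N.Normal → Group.IsSolvable N → N = ⊥
  conn : ∀ a ∈ D, ∀ b ∈ D, comp D Commute a = comp D Commute b

theorem PrimHyp.twinFree [Finite G] (h : PrimHyp D) : TwinFreeOn D := by
  intro b hb c hc hbc
  refine h.ttc.tt.perp_inj h.sol hb hc ?_
  ext z
  exact ⟨fun hz => ⟨hz.1, (hbc z hz.1).1 hz.2⟩, fun hz => ⟨hz.1, (hbc z hz.1).2 hz.2⟩⟩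

theorem PrimHyp.exists_conj_link [Finite G] (h : PrimHyp D) {a y y' : G} (ha : a ∈ D)
    (hy : y ∈ link D a) (hy' : y' ∈ link D a) : ∃ g ∈ linkSub D a, g * y * g⁻¹ = y' :=
  h.ttc.tt.exists_conj_of_mem_comp (fun _ hu => hu.1)
    (h.ttc.tt.lcomp_eq h.ttc.gen h.sol h.ttc.cls h.conn ha hy hy')

theorem PrimHyp.link_ttc [Finite G] (h : PrimHyp D) {a : G} (ha : a ∈ D)
    (h2 : ∃ x ∈ linkIn D a, ∃ y ∈ linkIn D a, x ≠ y) : TTC (linkIn D a) := by
  refine ⟨linkIn_tt h.ttc.tt a, linkIn_gen D a, fun x hx y hy => ?_, h2⟩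
  obtain ⟨g, hg, e⟩ := h.exists_conj_link ha hx hy
  exact ⟨⟨g, hg⟩, Subtype.ext e⟩

section Quot

variable {H : Type*} [Group H] {E : Set H}

theorem q_commute [Finite H] (h : TTC E) {x y : H} (hx : x ∈ E) (hy : y ∈ E) :
    Commute (x : H ⧸ Subgroup.center H) (y : H ⧸ Subgroup.center H) ↔ Commute x y := by
  refine ⟨fun hc => ?_, fun hc => hc.map (QuotientGroup.mk' (Subgroup.center H))⟩
  by_contra hn
  have h3 := pow_three_eq_one (h.tt.sq x hx) (h.tt.sq y hy) (h.tt.braid hx hy hn)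
  set π := QuotientGroup.mk' (Subgroup.center H) with hπ
  have hc' : Commute (π x) (π y) := hc
  have h2 : π ((x * y) ^ 2) = 1 := by
    rw [map_pow, map_mul, hc'.mul_pow, ← map_pow, ← map_pow, pow_two, pow_two, h.tt.sq x hx,
      h.tt.sq y hy, map_one, one_mul]
  have e : π ((x * y) ^ 3) = 1 := by rw [h3, map_one]
  rw [pow_succ, map_mul, h2, one_mul] at e
  have hxy : x * y ∈ Subgroup.center H := (QuotientGroup.eq_one_iff _).1 e
  exact hn (h.eq_of_central_mul hx hy hxy ▸ Commute.refl y)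

theorem q_inj [Finite H] (h : TTC E) {x y : H} (hx : x ∈ E) (hy : y ∈ E)
    (e : (x : H ⧸ Subgroup.center H) = y) : x = y := by
  have hm : x⁻¹ * y ∈ Subgroup.center H := QuotientGroup.eq.1 e
  rw [h.tt.inv_eq hx] at hm
  exact h.eq_of_central_mul hx hy hm

theorem qSet_ttc [Finite H] (h : TTC E) : TTC (qSet E) := by
  refine ⟨⟨?_, ?_, ?_, ?_⟩, ?_, ?_, ?_⟩
  · rintro _ ⟨x, hx, rfl⟩; rw [← QuotientGroup.mk_mul, h.tt.sq x hx, QuotientGroup.mk_one]
  · rintro _ ⟨x, hx, rfl⟩ he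
    exact h.ne_center hx ((QuotientGroup.eq_one_iff x).1 he)
  · rintro _ ⟨x, hx, rfl⟩ _ ⟨y, hy, rfl⟩
    rcases h.tt.cond x hx y hy with hc | hc
    · exact Or.inl ((q_commute h hx hy).2 hc)
    · exact Or.inr (by simp only [← QuotientGroup.mk_mul]; rw [hc])
  · rintro g _ ⟨x, hx, rfl⟩
    obtain ⟨g, rfl⟩ := QuotientGroup.mk_surjective g
    exact ⟨g * x * g⁻¹, h.tt.conj g x hx, by simp⟩
  · show Subgroup.closure ((QuotientGroup.mk' (Subgroup.center H)) '' E) = ⊤
    rw [← MonoidHom.map_closure, h.gen]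
    exact Subgroup.map_top_of_surjective _ (QuotientGroup.mk'_surjective _)
  · rintro _ ⟨x, hx, rfl⟩ _ ⟨y, hy, rfl⟩
    obtain ⟨g, hg⟩ := h.cls x hx y hy
    exact ⟨(g : H ⧸ Subgroup.center H), by rw [← hg]; simp⟩
  · obtain ⟨x, hx, y, hy, hne⟩ := h.nontriv
    exact ⟨_, ⟨x, hx, rfl⟩, _, ⟨y, hy, rfl⟩, fun e => hne (q_inj h hx hy e)⟩

theorem q_link [Finite H] (h : TTC E) {p : H} (hp : p ∈ E) :
    (QuotientGroup.mk : H → H ⧸ Subgroup.center H) '' link E p
      = link (qSet E) (p : H ⧸ Subgroup.center H) := by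
  ext z
  constructor
  · rintro ⟨x, ⟨hx, hne, hc⟩, rfl⟩
    exact ⟨⟨x, hx, rfl⟩, fun e => hne (q_inj h hx hp e), (q_commute h hp hx).2 hc⟩
  · rintro ⟨⟨x, hx, rfl⟩, hne, hc⟩
    exact ⟨x, ⟨hx, fun e => hne (by rw [e]), (q_commute h hp hx).1 hc⟩, rfl⟩

theorem q_link_inter [Finite H] (h : TTC E) {p r : H} (hp : p ∈ E) (hr : r ∈ E) :
    (QuotientGroup.mk : H → H ⧸ Subgroup.center H) '' (link E p ∩ link E r)
      = link (qSet E) (p : H ⧸ Subgroup.center H) ∩ link (qSet E) (r : H ⧸ Subgroup.center H) := by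
  rw [Set.InjOn.image_inter (u := E) (fun x hx y hy e => q_inj h hx hy e) (fun _ hx => hx.1)
    (fun _ hx => hx.1), q_link h hp, q_link h hr]

theorem q_twinFree [Finite H] (h : TTC E) {F : Set H} (hF : F ⊆ E)
    (ht : TwinFreeOn ((QuotientGroup.mk : H → H ⧸ Subgroup.center H) '' F)) : TwinFreeOn F :=
  ht.of_image (fun _ hx _ hy e => q_inj h (hF hx) (hF hy) e)
    (fun _ hx _ hy => q_commute h (hF hx) (hF hy))

theorem q_sol [Finite H] (h : TTC E) (h2 : Cfsg.pCore 2 H ≤ Subgroup.center H)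
    (h3 : Cfsg.pCore 3 H ≤ Subgroup.center H) :
    ∀ N : Subgroup (H ⧸ Subgroup.center H), N.Normal → Group.IsSolvable N → N = ⊥ := by
  obtain ⟨L, -, hL, -, hC⟩ := h.exists_main_component h2 h3
  set π := QuotientGroup.mk' (Subgroup.center H) with hπ
  intro N hN hs
  haveI : (N.comap π).Normal := hN.comap π
  haveI := hs
  have hMs : Group.IsSolvable (N.comap π) := by
    refine (Group.isSolvable_iff_subgroup_quotient ((Subgroup.center H).subgroupOf (N.comap π))).mpr
      ⟨Group.isSolvable_of_comm fun u v => Subtype.ext (Subtype.ext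
          (Subgroup.mem_center_iff.1 v.2 (u : N.comap π))), ?_⟩
    refine Group.isSolvable_of_isSolvable_injective (G' := N)
      (f := QuotientGroup.lift ((Subgroup.center H).subgroupOf (N.comap π))
        ((π.comp (N.comap π).subtype).codRestrict N fun x => x.2)
        (fun x hx => Subtype.ext ((QuotientGroup.eq_one_iff (x : H)).2 hx))) ?_
    rw [injective_iff_map_eq_one]
    intro x
    obtain ⟨x, rfl⟩ := QuotientGroup.mk_surjective x
    intro hx
    rw [QuotientGroup.eq_one_iff]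
    exact (QuotientGroup.eq_one_iff (x : H)).1 (congrArg Subtype.val hx)
  rw [eq_bot_iff]
  intro x hx
  obtain ⟨g, rfl⟩ := QuotientGroup.mk'_surjective (Subgroup.center H) x
  have hle : N.comap π ≤ Subgroup.center H := by
    have hn : L ≤ Subgroup.normalizer (N.comap π : Set H) := by
      rw [Subgroup.normalizer_eq_top (H := N.comap π)]; exact le_top
    have := CfsgLib.Cores.component_commutator_solvable hL hMs hn
    exact fun z hz => hC ▸ Subgroup.le_centralizer_iff.1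
      (Subgroup.commutator_eq_bot_iff_le_centralizer.1 this) hz
  exact Subgroup.mem_bot.2 ((QuotientGroup.eq_one_iff g).2 (hle hx))

theorem q_primHyp [Finite H] (h : TTC E) (h2 : Cfsg.pCore 2 H ≤ Subgroup.center H)
    (h3 : Cfsg.pCore 3 H ≤ Subgroup.center H)
    (hconn : ∀ a ∈ E, ∀ b ∈ E, comp E Commute a = comp E Commute b) : PrimHyp (qSet E) := by
  refine ⟨qSet_ttc h, q_sol h h2 h3, ?_⟩
  rintro _ ⟨x, hx, rfl⟩ _ ⟨y, hy, rfl⟩
  refine (comp_eq_of_mem (fun _ _ hh => hh.symm) ?_).symm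
  have hyx : y ∈ comp E Commute x := hconn x hx y hy ▸ mem_comp_self _ _ _
  exact Relation.ReflTransGen.lift
    (p := fun u v => u ∈ qSet E ∧ v ∈ qSet E ∧ Commute u v) _
    (fun u v huv => ⟨⟨u, huv.1, rfl⟩, ⟨v, huv.2.1, rfl⟩, (q_commute h huv.1 huv.2.1).2 huv.2.2⟩)
    _ _ hyx

end Quot

/-- Two members from a non-commuting pair downstairs. -/
theorem nontriv_of_qSet {H : Type*} [Group H] {E : Set H} {u v : H ⧸ Subgroup.center H}
    (hu : u ∈ qSet E) (hv : v ∈ qSet E) (hne : u ≠ v) : ∃ x ∈ E, ∃ y ∈ E, x ≠ y := by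
  obtain ⟨x, hx, rfl⟩ := hu
  obtain ⟨y, hy, rfl⟩ := hv
  exact ⟨x, hx, y, hy, fun e => hne (by rw [e])⟩

end CfsgLib.ThreeTransp.Factor
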