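import Cfsg.Agent.Lib.ThreeTransp.Radical

/-!
# Products of commuting transpositions: elementary identities

A product of two or three commuting transpositions determines its factors as soon as members with
equal perps are equal and, for three factors, certain intersections of links are twin-free.
-/

set_option autoImplicit false

namespace CfsgLib.ThreeTransp.Factor

variable {G : Type*} [Group G] {D : Set G}

/-- Members of `E` are told apart by the members of `E` commuting with them. -/
def TwinFreeOn (E : Set G) : Prop :=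
  ∀ b ∈ E, ∀ c ∈ E, (∀ z ∈ E, Commute b z ↔ Commute c z) → b = c

/-- Twin-freeness of the common links of two commuting members. -/
def TFTwo (D : Set G) : Prop := ∀ a ∈ D, ∀ p ∈ link D a, TwinFreeOn (link D a ∩ link D p)

/-- Twin-freeness of the common links of three commuting members. -/
def TFThree (D : Set G) : Prop :=
  ∀ a ∈ D, ∀ p ∈ link D a, ∀ q ∈ link D a ∩ link D p,
    TwinFreeOn (link D a ∩ link D p ∩ link D q)

theorem twinFreeOn_of_perp_inj (h : TwinFreeOn D) {a b : G} (ha : a ∈ D) (hb : b ∈ D)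
    (hab : perp D a = perp D b) : a = b :=
  h a ha b hb fun z hz =>
    ⟨fun hc => IsTT.commute_of_perp_eq hz hab hc, fun hc => IsTT.commute_of_perp_eq hz hab.symm hc⟩

/-- A member commuting with neither of two members but with their product sees them equal. -/
theorem eq_of_commute_mul (hD : IsTT D) {z p q : G} (hz : z ∈ D) (hp : p ∈ D) (hq : q ∈ D)
    (hzp : ¬Commute z p) (hzq : ¬Commute z q) (h : Commute z (p * q)) : p = q := by
  have zz := hD.sq z hz
  have e1 : z * (p * q) * z = p * q := by rw [h.eq, mul_assoc, zz, mul_one]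
  have e2 : (p * z * p) * (q * z * q) = p * q := by
    rw [← hD.braid hz hp hzp, ← hD.braid hz hq hzq]
    calc z * p * z * (z * q * z) = z * (p * (z * z) * q) * z := by group
      _ = z * (p * q) * z := by rw [zz, mul_one]
      _ = p * q := e1
  have e3 : z * (p * q) * z = 1 := by
    calc z * (p * q) * z = p⁻¹ * ((p * z * p) * (q * z * q)) * q⁻¹ := by group
      _ = 1 := by rw [e2]; group
  rw [e1, mul_eq_one_iff_eq_inv, hD.inv_eq hq] at e3
  exact e3

/-- Conjugation by two commuting members, neither commuting with `z`. -/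
theorem commute_pair_conj (hD : IsTT D) {z a b : G} (hz : z ∈ D) (ha : a ∈ D) (hb : b ∈ D)
    (hza : ¬Commute z a) (hzb : ¬Commute z b) (hab : Commute a b) :
    Commute z (a * b * z * (a * b)⁻¹) := by
  have zz := hD.sq z hz
  have hbab : b * a * b = a := by rw [hab.symm.eq, mul_assoc, hD.sq b hb, mul_one]
  have e0 : a * b * z * (a * b)⁻¹ = b * (a * z * a) * b := by
    rw [mul_inv_rev, hD.inv_eq ha, hD.inv_eq hb]
    calc a * b * z * (b * a) = (a * b) * z * (b * a) := by group
      _ = (b * a) * z * (a * b) := by rw [hab.eq]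
      _ = b * (a * z * a) * b := by group
  rw [e0]
  set w := b * (a * z * a) * b with hw
  have key : z * w * z = w := by
    have u : a * z * a = z * a * z := (hD.braid hz ha hza).symm
    calc z * w * z = (z * b * z) * a * (z * b * z) := by rw [hw, u]; group
      _ = (b * z * b) * a * (b * z * b) := by rw [hD.braid hz hb hzb]
      _ = b * z * (b * a * b) * z * b := by group
      _ = w := by rw [hbab, hw, u]; group
  calc z * w = (z * w * z) * z := by rw [mul_assoc, zz, mul_one]
    _ = w * z := by rw [key]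

theorem pair_conj_ne (hD : IsTT D) {z a b : G} (hz : z ∈ D) (ha : a ∈ D) (hb : b ∈ D)
    (hza : ¬Commute z a) (hzb : ¬Commute z b) (hab : a ≠ b) :
    a * b * z * (a * b)⁻¹ ≠ z := by
  intro e
  refine hab (eq_of_commute_mul hD hz ha hb hza hzb ?_)
  rw [mul_inv_eq_iff_eq_mul] at e
  exact e.symm

theorem eq_of_cj_eq (hD : IsTT D) {z b q : G} (hz : z ∈ D) (hb : b ∈ D) (hq : q ∈ D)
    (hzb : ¬Commute z b) (hzq : ¬Commute z q) (h : b * z * b = q * z * q) : b = q := by
  refine (eq_of_commute_mul hD hz hq hb hzq hzb ?_).symm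
  calc z * (q * b) = q * (q * z * q) * b := by
        rw [show q * (q * z * q) = q * q * z * q by group, hD.sq q hq]; group
    _ = q * (b * z * b) * b := by rw [h]
    _ = q * b * z := by rw [mul_assoc q, mul_assoc (b * z), hD.sq b hb, mul_one, mul_assoc]

/-- The three possibilities for conjugating `z` by two commuting members. -/
theorem pair_cases (hD : IsTT D) {z b c : G} (hz : z ∈ D) (hb : b ∈ D) (hc : c ∈ D)
    (hbc : Commute b c) (hne : b ≠ c) :
    ((Commute z b ∧ Commute z c) ∧ b * c * z * (b * c)⁻¹ = z) ∨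
      (∃ e, (e = b ∨ e = c) ∧ ¬Commute z e ∧ b * c * z * (b * c)⁻¹ = e * z * e) ∨
      ((¬Commute z b ∧ ¬Commute z c) ∧ b * c * z * (b * c)⁻¹ ≠ z ∧
        Commute z (b * c * z * (b * c)⁻¹)) := by
  by_cases h1 : Commute z b <;> by_cases h2 : Commute z c
  · exact Or.inl ⟨⟨h1, h2⟩, by rw [← (h1.mul_right h2).eq]; group⟩
  · refine Or.inr (Or.inl ⟨c, Or.inr rfl, h2, ?_⟩)
    rw [hbc.eq, mul_inv_rev, hD.inv_eq hc]
    calc c * b * z * (b⁻¹ * c) = c * (b * z) * b⁻¹ * c := by group
      _ = c * (z * b) * b⁻¹ * c := by rw [h1.eq]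
      _ = c * z * c := by group
  · refine Or.inr (Or.inl ⟨b, Or.inl rfl, h1, ?_⟩)
    rw [mul_inv_rev, hD.inv_eq hb]
    calc b * c * z * (c⁻¹ * b) = b * (c * z) * c⁻¹ * b := by group
      _ = b * (z * c) * c⁻¹ * b := by rw [h2.eq]
      _ = b * z * b := by group
  · exact Or.inr (Or.inr ⟨⟨h1, h2⟩, pair_conj_ne hD hz hb hc h1 h2 hne,
      commute_pair_conj hD hz hb hc h1 h2 hbc⟩)

theorem not_commute_cj (hD : IsTT D) {z e : G} (hz : z ∈ D) (he : e ∈ D) (h : ¬Commute z e) :
    ¬Commute z (e * z * e) :=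
  hD.not_commute_cj_right he hz fun hc => h hc.symm

/-- Two disjoint commuting pairs acting alike on `z` are both centralized or both moved by it. -/
theorem two_two (hD : IsTT D) {z b c q r : G} (hz : z ∈ D) (hb : b ∈ D) (hc : c ∈ D) (hq : q ∈ D)
    (hr : r ∈ D) (hbc : Commute b c) (hqr : Commute q r) (nbc : b ≠ c) (nqr : q ≠ r)
    (nbq : b ≠ q) (nbr : b ≠ r) (ncq : c ≠ q) (ncr : c ≠ r)
    (h : b * c * z * (b * c)⁻¹ = q * r * z * (q * r)⁻¹) :
    (Commute z b ↔ Commute z c) ∧ (Commute z b ↔ Commute z q) := by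
  rcases pair_cases hD hz hb hc hbc nbc with ⟨⟨u, v⟩, ev⟩ | ⟨e, he, hne, ev⟩ | ⟨⟨u, v⟩, nv, cv⟩ <;>
    rcases pair_cases hD hz hq hr hqr nqr with ⟨⟨s, t⟩, ew⟩ | ⟨f, hf, hnf, ew⟩ | ⟨⟨s, t⟩, nw, cw⟩
  · exact ⟨iff_of_true u v, iff_of_true u s⟩
  · have hfD : f ∈ D := by rcases hf with rfl | rfl <;> assumption
    exact absurd (show Commute z (f * z * f) by rw [← ew, ← h, ev])
      (not_commute_cj hD hz hfD hnf)
  · exact absurd (h.symm.trans ev) nw
  · have heD : e ∈ D := by rcases he with rfl | rfl <;> assumption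
    exact absurd (show Commute z (e * z * e) by rw [← ev, h, ew])
      (not_commute_cj hD hz heD hne)
  · have heD : e ∈ D := by rcases he with rfl | rfl <;> assumption
    have hfD : f ∈ D := by rcases hf with rfl | rfl <;> assumption
    have := eq_of_cj_eq hD hz heD hfD hne hnf (ev.symm.trans (h.trans ew))
    rcases he with rfl | rfl <;> rcases hf with rfl | rfl <;> contradiction
  · have heD : e ∈ D := by rcases he with rfl | rfl <;> assumption
    exact absurd (show Commute z (e * z * e) by rw [← ev, h]; exact cw)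
      (not_commute_cj hD hz heD hne)
  · exact absurd (h.trans ew) nv
  · have hfD : f ∈ D := by rcases hf with rfl | rfl <;> assumption
    exact absurd (show Commute z (f * z * f) by rw [← ew, ← h]; exact cv)
      (not_commute_cj hD hz hfD hnf)
  · exact ⟨iff_of_false u v, iff_of_false u s⟩

/-- Three pairwise commuting distinct members with product `j`. -/
structure Tri (D : Set G) (a b c j : G) : Prop where
  ma : a ∈ D
  mb : b ∈ D
  mc : c ∈ D
  cab : Commute a b
  cac : Commute a c
  cbc : Commute b c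
  nab : a ≠ b
  nac : a ≠ c
  nbc : b ≠ c
  prod : a * b * c = j

theorem Tri.swap {a b c j : G} (h : Tri D a b c j) : Tri D b a c j :=
  ⟨h.mb, h.ma, h.mc, h.cab.symm, h.cbc, h.cac, h.nab.symm, h.nbc, h.nac,
    by rw [← h.cab.eq, h.prod]⟩

theorem Tri.rot {a b c j : G} (h : Tri D a b c j) : Tri D b c a j :=
  ⟨h.mb, h.mc, h.ma, h.cbc, h.cab.symm, h.cac.symm, h.nbc, h.nab.symm, h.nac.symm,
    by rw [← (h.cab.mul_right h.cac).eq, ← mul_assoc, h.prod]⟩

theorem Tri.conj (hD : IsTT D) {a b c j : G} (h : Tri D a b c j) (g : G) :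
    Tri D (g * a * g⁻¹) (g * b * g⁻¹) (g * c * g⁻¹) (g * j * g⁻¹) :=
  ⟨hD.conj g a h.ma, hD.conj g b h.mb, hD.conj g c h.mc, (Commute.conj_iff g).mpr h.cab,
    (Commute.conj_iff g).mpr h.cac, (Commute.conj_iff g).mpr h.cbc,
    fun e => h.nab (by simpa using e), fun e => h.nac (by simpa using e),
    fun e => h.nbc (by simpa using e), by rw [← h.prod]; group⟩

theorem Tri.commute_prod {a b c j : G} (h : Tri D a b c j) : Commute a j := by
  rw [← h.prod]
  exact ((Commute.refl a).mul_right h.cab).mul_right h.cac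

/-- A product of two commuting members determines them. -/
theorem pair_unique (hD : IsTT D) (hpi : TwinFreeOn D) {b c q r : G} (hb : b ∈ D) (hc : c ∈ D)
    (hq : q ∈ D) (hr : r ∈ D) (hbc : Commute b c) (hqr : Commute q r) (nbc : b ≠ c) (nqr : q ≠ r)
    (h : b * c = q * r) : (b = q ∧ c = r) ∨ (b = r ∧ c = q) := by
  by_cases e1 : b = q
  · subst e1; exact Or.inl ⟨rfl, mul_left_cancel h⟩
  by_cases e2 : b = r
  · subst e2; exact Or.inr ⟨rfl, mul_left_cancel (h.trans hqr.eq)⟩
  by_cases e3 : c = q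
  · subst e3; exact Or.inr ⟨mul_left_cancel (hbc.symm.eq.trans h), rfl⟩
  by_cases e4 : c = r
  · subst e4; exact Or.inl ⟨mul_right_cancel h, rfl⟩
  exfalso
  refine nbc (hpi b hb c hc fun z hz => ?_)
  have := (two_two hD hz hb hc hq hr hbc hqr nbc nqr e1 e2 e3 e4 (by rw [h])).1
  exact ⟨fun hh => (this.1 hh.symm).symm, fun hh => (this.2 hh.symm).symm⟩

theorem Tri.share (hD : IsTT D) (hpi : TwinFreeOn D) {a b c q r j : G} (T : Tri D a b c j)
    (T' : Tri D b q r j) : a = q ∨ a = r := by
  have e : a * c = q * r := by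
    have h1 := T.swap.prod.trans T'.prod.symm
    rw [mul_assoc, mul_assoc] at h1
    exact mul_left_cancel h1
  rcases pair_unique hD hpi T.ma T.mc T'.mb T'.mc T.cac T'.cbc T.nac T'.nbc e with h | h
  · exact Or.inl h.1
  · exact Or.inr h.1

/-- A member commuting with the product, outside the factors, commutes with each factor. -/
theorem Tri.commute_left (hD : IsTT D) {a b c j p : G} (T : Tri D a b c j) (hp : p ∈ D)
    (hj : Commute p j) : Commute p a := by
  have ea : a = j * (b * c)⁻¹ := by rw [← T.prod]; group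
  have eb : a * b = j * c⁻¹ := by rw [← T.prod]; group
  have ec : a * c = j * b⁻¹ := by
    rw [← T.prod, mul_assoc a b c, T.cbc.eq]; group
  by_contra h
  by_cases h1 : Commute p b <;> by_cases h2 : Commute p c
  · exact h (ea ▸ hj.mul_right (h1.mul_right h2).inv_right)
  · exact T.nac (eq_of_commute_mul hD hp T.ma T.mc h h2 (ec ▸ hj.mul_right h1.inv_right))
  · exact T.nab (eq_of_commute_mul hD hp T.ma T.mb h h1 (eb ▸ hj.mul_right h2.inv_right))
  · have key := commute_pair_conj hD hp T.ma T.mb h h1 T.cab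
    have e : a * b * p * (a * b)⁻¹ = c * p * c := by
      have hjc : Commute j c := T.rot.rot.commute_prod.symm
      rw [eb, mul_inv_rev, inv_inv]
      calc j * c⁻¹ * p * (c * j⁻¹) = (j * c⁻¹) * p * (c * j⁻¹) := rfl
        _ = (c⁻¹ * j) * p * (j⁻¹ * c) := by rw [hjc.inv_right.eq, hjc.symm.inv_right.eq]
        _ = c⁻¹ * (j * p) * j⁻¹ * c := by group
        _ = c⁻¹ * (p * j) * j⁻¹ * c := by rw [hj.eq]
        _ = c * p * c := by rw [hD.inv_eq T.mc]; group
    rw [e] at key
    exact not_commute_cj hD hp T.mc h2 key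

/-- Two disjoint triples with one product are impossible. -/
theorem Tri.disjoint_false (hD : IsTT D) (htf : TFTwo D ∨ TFThree D) {a b c p q r j : G}
    (T : Tri D a b c j) (T' : Tri D p q r j) (nap : a ≠ p) (naq : a ≠ q) (nbp : b ≠ p)
    (nbq : b ≠ q) (nbr : b ≠ r) (ncp : c ≠ p) (ncq : c ≠ q) (ncr : c ≠ r) : False := by
  have hp := T'.commute_prod
  have hq := T'.rot.commute_prod
  have cpa := T.commute_left hD T'.ma hp
  have cpb := T.rot.commute_left hD T'.ma hp
  have cpc := T.rot.rot.commute_left hD T'.ma hp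
  have cqa := T.commute_left hD T'.mb hq
  have cqb := T.rot.commute_left hD T'.mb hq
  have cqc := T.rot.rot.commute_left hD T'.mb hq
  -- on the common link of `a` and `p` the two remaining pairs act alike
  have key : ∀ z ∈ link D a ∩ link D p,
      (Commute z b ↔ Commute z c) ∧ (Commute z b ↔ Commute z q) := by
    intro z hz
    refine two_two hD hz.1.1 T.mb T.mc T'.mb T'.mc T.cbc T'.cbc T.nbc T'.nbc nbq nbr ncq ncr ?_
    have e : ∀ {x y w : G}, Commute x z → Tri D x y w j →
        j * z * j⁻¹ = y * w * z * (y * w)⁻¹ := by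
      intro x y w hxz hT
      rw [← hT.prod, mul_assoc x, (hT.cab.mul_right hT.cac).eq, mul_inv_rev]
      calc y * w * x * z * (x⁻¹ * (y * w)⁻¹) = y * w * (x * z) * x⁻¹ * (y * w)⁻¹ := by group
        _ = y * w * (z * x) * x⁻¹ * (y * w)⁻¹ := by rw [hxz.eq]
        _ = y * w * z * (y * w)⁻¹ := by group
    exact (e hz.1.2.2 T).symm.trans (e hz.2.2.2 T')
  have hpL : p ∈ link D a := ⟨T'.ma, nap.symm, cpa.symm⟩
  have hbE : b ∈ link D a ∩ link D p := ⟨⟨T.mb, T.nab.symm, T.cab⟩, T.mb, nbp, cpb⟩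
  have hcE : c ∈ link D a ∩ link D p := ⟨⟨T.mc, T.nac.symm, T.cac⟩, T.mc, ncp, cpc⟩
  rcases htf with htf | htf
  · refine T.nbc (htf a T.ma p hpL b hbE c hcE fun z hz => ?_)
    have := (key z hz).1
    exact ⟨fun hh => (this.1 hh.symm).symm, fun hh => (this.2 hh.symm).symm⟩
  · have hqE : q ∈ link D a ∩ link D p :=
      ⟨⟨T'.mb, naq.symm, cqa.symm⟩, T'.mb, T'.nab.symm, T'.cab⟩
    refine T.nbc (htf a T.ma p hpL q hqE b ⟨hbE, T.mb, nbq, cqb⟩ c ⟨hcE, T.mc, ncq, cqc⟩
      fun z hz => ?_)
    obtain ⟨k1, k2⟩ := key z hz.1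
    have hb : Commute z b := k2.2 hz.2.2.2.symm
    exact iff_of_true hb.symm (k1.1 hb).symm

/-- A product of three commuting members determines them. -/
theorem Tri.mem_of_prod_eq (hD : IsTT D) (hpi : TwinFreeOn D) (htf : TFTwo D ∨ TFThree D)
    {a b c p q r j : G} (T : Tri D a b c j) (T' : Tri D p q r j) : a = p ∨ a = q ∨ a = r := by
  by_contra hcon
  push Not at hcon
  obtain ⟨n1, n2, n3⟩ := hcon
  have shared : ∀ {b' c' : G}, Tri D a b' c' j → b' ≠ p ∧ b' ≠ q ∧ b' ≠ r := by
    intro b' c' S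
    refine ⟨?_, ?_, ?_⟩ <;> rintro rfl
    · exact (S.share hD hpi T').elim n2 n3
    · exact (S.share hD hpi T'.rot).elim n3 n1
    · exact (S.share hD hpi T'.rot.rot).elim n1 n2
  obtain ⟨b1, b2, b3⟩ := shared T
  obtain ⟨c1, c2, c3⟩ := shared T.rot.rot.swap
  exact T.disjoint_false hD htf T' n1 n2 b1 b2 b3 c1 c2 c3

end CfsgLib.ThreeTransp.Factor
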